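import Cfsg.Agent.H715.HT.E7ThreeS
import Cfsg.Agent.H668.HT.E7Five
import Cfsg.Agent.H726.HT.Ab
import Cfsg.Agent.H248.HT.Glue

/-!
# S4933: the row of `E₇(q)`, `p` odd, `p ∤ q` (helper715)

* `ud_of` : the unit data from a self-normalising subgroup and a character;
* `ud_E7` : `UD p 1` for `E₇(q)`, `p = 3, 5, 7` with non-abelian Sylow `p`-subgroups;
* `e7` : the field `e7` of `OddRows`.
-/

set_option autoImplicit false
set_option linter.unusedSectionVars false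

namespace Cfsg.Agent.H715.HT

open CoxeterSystem Cfsg Cfsg.Lie
open Cfsg.Agent.ChevalleyStructure Cfsg.Agent.ChevalleyStructure.CoxeterGeom
  Cfsg.Agent.ChevalleyStructure.CoxeterGeomTypes Cfsg.Agent.ChevalleyStructure.NPerm
open Cfsg.Agent.Tits.Roots Cfsg.Agent.Tits.Core Cfsg.Agent.Nodes.Reps Cfsg.Agent.Nodes.BNOf
  Cfsg.Agent.Nodes.RGDChev Cfsg.Agent.Nodes.Bruhat Cfsg.Agent.Nodes.StabComb Cfsg.Agent.Nodes.LeviDec
  Cfsg.Agent.H35.ExcIdx
open Cfsg.Agent.H116.HeckeD (perm)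
open Cfsg.Agent.H316.HT (vd Row)
open Cfsg.Agent.H248.HT (UD row_of_ud_one)
open Cfsg.Agent.H892.HT (Ab)

universe u

/-- the unit data from a self-normalising subgroup and a character -/
theorem ud_of {p v : ℕ} (hv : 0 < v) {S : Type u} [Group S] [Fintype S] (H : Subgroup S) (ψ : IrrCharacter S)
    (h1 : classInner (perm S (S ⧸ H)) (ψ : S → ℂ) = 1) (h2 : ∀ s : S, (∀ x, s⁻¹ * x * s ∈ H ↔ x ∈ H) → s ∈ H)
    (h3 : ∀ M' : Ideal AlgInt, IsPModular p M' → ψ ∈ principalBlock M' S) (h4 : vd p (ψ : S → ℂ) = v)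
    (h5 : ∀ α : MulAut S, (∃ s : S, ∀ x, s⁻¹ * α x * s ∈ H ↔ x ∈ H) ∧ ∀ s, (ψ : S → ℂ) (α s) = (ψ : S → ℂ) s) :
    UD p v S := by
  refine ⟨H, ψ, ?_, h3, h4, ?_, fun s hs => ?_, fun φ _ => h5 φ⟩
  · rw [H674.XZ.ip_eq]
    exact h1
  · refine H248.HT.exists_ne (χ' := ⟨_, Blocks.Basic.isIrrCharacter_one⟩) rfl fun he => ?_
    rw [he] at h4
    have h6 : charDegree (fun _ : S => (1 : ℂ)) = 1 := by
      show ⌊((1 : ℂ)).re⌋₊ = 1
      simp
    have h7 : vd p (fun _ : S => (1 : ℂ)) = 0 := by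
      rw [vd, h6, Nat.factorization_one]
      rfl
    have h8 : vd p (fun _ : S => (1 : ℂ)) = v := h4
    omega
  · have h6 : s⁻¹ ∈ H := h2 s⁻¹ fun x => by rw [inv_inv]; exact hs x
    exact (Subgroup.inv_mem_iff H).1 h6

/-- `p = 3` -/
theorem ud_three (K : Type u) [Field K] [Fintype K] [Finite ↥(chevE7.group K)] (hq : ¬ 3 ∣ Fintype.card K) :
    UD 3 1 ↥(chevE7.group K) := by
  have : Fintype ↥(chevE7.group K) := Fintype.ofFinite _
  have : Fact (Nat.Prime 3) := ⟨by norm_num⟩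
  obtain ⟨H, ψ, h1, h2, h3, h4, h5⟩ := ud_E7_three K hq
  exact ud_of one_pos H ψ h1 h2 h3 h4 h5

/-- `p = 7` -/
theorem ud_seven (K : Type u) [Field K] [Fintype K] [Finite ↥(chevE7.group K)] (hq : 7 ∣ Fintype.card K ^ 2 - 1) :
    UD 7 1 ↥(chevE7.group K) := by
  have : Fintype ↥(chevE7.group K) := Fintype.ofFinite _
  have : Fact (Nat.Prime 7) := ⟨by norm_num⟩
  obtain ⟨H, ψ, h1, h2, h3, h4, h5⟩ := ud_E7_seven K hq
  exact ud_of one_pos H ψ h1 h2 h3 h4 h5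

/-- `p = 5` -/
theorem ud_five (K : Type u) [Field K] [Fintype K] [Finite ↥(chevE7.group K)]
    (h5 : Fintype.card K % 5 = 1 ∨ Fintype.card K % 5 = 4) : UD 5 1 ↥(chevE7.group K) := by
  have : Fintype ↥(chevE7.group K) := Fintype.ofFinite _
  obtain ⟨r, hr⟩ := CharP.exists K
  have : Fact r.Prime := ⟨CharP.char_is_prime K r⟩
  have : Fact (Nat.Prime 5) := ⟨by norm_num⟩
  have := finite_W hpE7 CoxeterMatrix.E₇.toCoxeterSystem
  have hK : 2 ≤ Fintype.card K := Fintype.one_lt_card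
  have hA : cartanOf chevE7 7 = H996.PQ.TabE7c.A := H996.PQ.FullE7c.hA
  have R := rgd (K := K) hpE7 CoxeterMatrix.E₇.toCoxeterSystem r
  have hG := GG_eq_top hpE7 K CoxeterMatrix.E₇.toCoxeterSystem
  obtain ⟨-, ψ, h1, h2, h3, h4⟩ := H668.HT.udata_rgd hA R hG hK (fun i => by
    rw [card_XX hpE7 K CoxeterMatrix.E₇.toCoxeterSystem (isRoot_sr _ _ i), Nat.card_eq_fintype_card]) h5
    (fun h1 M hM χ hχ => H631.HT.mem_one_E7 (by norm_num) (by omega) hM _ χ hχ)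
  exact ud_of one_pos _ ψ h1 (self_PJ R hG _) h2 h3 fun α => ⟨cls_PJ R hG (H631.HT.typ_E7 R hG α) _, (h4 α).2⟩

/-- **The row of `E₇(q)`.** -/
theorem e7 (p : ℕ) [Fact p.Prime] (F : Type) [Field F] [Fintype F] [IsSimpleGroup (Lie.chevE7.group F)] (hp2 : p ≠ 2)
    (hq : ¬ p ∣ Fintype.card F) (hab : ¬ Ab p (Lie.chevE7.group F)) : Row p (Lie.chevE7.group F) := by
  have hfin : Finite ↥(chevE7.group F) := inferInstance
  have h1 : 1 ≤ Fintype.card F := Fintype.card_pos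
  rcases H726.HT.e7_cases hp2 hq hab with rfl | ⟨rfl, h⟩ | ⟨rfl, h⟩
  · exact row_of_ud_one (ud_three F hq)
  · exact row_of_ud_one (ud_five F h)
  · refine row_of_ud_one (ud_seven F ?_)
    have e : Fintype.card F ^ 2 - 1 = (Fintype.card F - 1) * (Fintype.card F + 1) := by
      obtain ⟨k, hk⟩ := Nat.exists_eq_add_of_le h1
      rw [hk, Nat.add_sub_cancel_left]
      have : (1 + k) ^ 2 = k * (1 + k + 1) + 1 := by ring
      rw [this, Nat.add_sub_cancel]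
    rw [e]
    rcases h with h | h
    · exact Dvd.dvd.mul_right (by omega) _
    · exact Dvd.dvd.mul_left (by omega) _

end Cfsg.Agent.H715.HT
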