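import Cfsg.Agent.H631.HT.E7Seven
import Cfsg.Agent.H554.RG

/-!
# S4933: `E₇(q)`, `p = 3` and `p = 7`, with the self-normalising parabolic subgroup (helper715)

* `self_PJ` : the parabolic subgroups are self-normalising;
* `ud_E7_three` : the constituent `q ^ 3 Φ₇ Φ₉ Φ₁₄ Φ₁₈` of `1_P^G`, `P` of type `E₆`;
* `ud_E7_seven` : the constituent `q Φ₇ Φ₁₂ Φ₁₄`.
-/

set_option autoImplicit false
set_option linter.unusedSectionVars false

namespace Cfsg.Agent.H715.HT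

open CoxeterSystem Cfsg Cfsg.Lie
open Cfsg.Agent.ChevalleyStructure Cfsg.Agent.ChevalleyStructure.CoxeterGeom
  Cfsg.Agent.ChevalleyStructure.CoxeterGeomTypes Cfsg.Agent.ChevalleyStructure.NPerm
open Cfsg.Agent.Tits.Roots Cfsg.Agent.Tits.Core Cfsg.Agent.Nodes.Reps Cfsg.Agent.Nodes.BNOf
  Cfsg.Agent.Nodes.RGDChev Cfsg.Agent.Nodes.Bruhat Cfsg.Agent.Nodes.StabComb Cfsg.Agent.Nodes.LeviDec
  Cfsg.Agent.H35.ExcIdx
open Cfsg.Agent.H116.HeckeD (perm)
open Cfsg.Agent.H77.RK Cfsg.Agent.H116.StAut Cfsg.Agent.H631.HT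
open Cfsg.Agent.H316.HT (vd)

universe u

section Self

variable {I W S : Type*} [Fintype I] [DecidableEq I] [Group W] [Finite W] [Group S] [Finite S] {Mx : CoxeterMatrix I}
  {cs : CoxeterSystem Mx W} {A : I → I → ℤ} {h : IsCartan Mx A} {r : ℕ} [Fact r.Prime] {T : Subgroup S} {n : I → S}
  {X : (I → ℤ) → Subgroup S} (R : RGD cs h r T n X)

include R in
/-- the parabolic subgroups are self-normalising -/
theorem self_PJ (hG : GG cs h T X = ⊤) (J : Set I) (s : S)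
    (hs : ∀ x : S, s⁻¹ * x * s ∈ PJ cs h T X J ↔ x ∈ PJ cs h T X J) : s ∈ PJ cs h T X J := by
  refine H554.RG.mem_of_B_le_conj R hG (P := PJ cs h T X J) B_le_PJ fun b hb => ?_
  refine ⟨s⁻¹ * b * s, (hs b).2 (B_le_PJ hb), ?_⟩
  show s * (s⁻¹ * b * s) * s⁻¹ = b
  group

include R in
/-- an automorphism of trivial type maps the parabolic subgroups to conjugates -/
theorem cls_PJ (hG : GG cs h T X = ⊤) {α : MulAut S} (hα : typHom R hG α = 1) (J : Set I) :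
    ∃ s : S, ∀ x : S, s⁻¹ * α x * s ∈ PJ cs h T X J ↔ x ∈ PJ cs h T X J := by
  obtain ⟨s, hs⟩ := cls_of_typ R hG hα J
  exact ⟨s⁻¹, fun x => by rw [inv_inv]; exact hs x⟩

end Self

theorem e7_three_chk' : chkV 3 1 (fun t => t % 3 != 0) (e77Dg.getD 0 []) = true ∧ chkB e77Cert [1] 0 = true := by
  decide +kernel

/-- **`E₇(q)`, `p = 3`.** -/
theorem ud_E7_three [Fact (Nat.Prime 3)] (K : Type u) [Field K] [Fintype K] [Fintype ↥(chevE7.group K)]
    (hq : ¬ 3 ∣ Fintype.card K) :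
    ∃ (H : Subgroup ↥(chevE7.group K)) (ψ : IrrCharacter ↥(chevE7.group K)),
      classInner (perm ↥(chevE7.group K) (↥(chevE7.group K) ⧸ H)) (ψ : ↥(chevE7.group K) → ℂ) = 1 ∧
      (∀ s : ↥(chevE7.group K), (∀ x, s⁻¹ * x * s ∈ H ↔ x ∈ H) → s ∈ H) ∧
      (∀ M' : Ideal AlgInt, IsPModular 3 M' → ψ ∈ principalBlock M' ↥(chevE7.group K)) ∧
      vd 3 (ψ : ↥(chevE7.group K) → ℂ) = 1 ∧
      ∀ α : MulAut ↥(chevE7.group K), (∃ s : ↥(chevE7.group K), ∀ x, s⁻¹ * α x * s ∈ H ↔ x ∈ H) ∧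
        ∀ s, (ψ : ↥(chevE7.group K) → ℂ) (α s) = (ψ : ↥(chevE7.group K) → ℂ) s := by
  obtain ⟨r, hr⟩ := CharP.exists K
  have hrp : Fact r.Prime := ⟨CharP.char_is_prime K r⟩
  have hfin : Finite CoxeterMatrix.E₇.Group := finite_W hpE7 CoxeterMatrix.E₇.toCoxeterSystem
  have R := rgd (K := K) hpE7 CoxeterMatrix.E₇.toCoxeterSystem r
  have hG := Cfsg.Agent.BpExc.TorChev.GG_top (K := K) hpE7 CoxeterMatrix.E₇.toCoxeterSystem
  have h1 : 1 ≤ Fintype.card K := Fintype.card_pos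
  have hc : (fun t => t % 3 != 0) (Fintype.card K % 3 ^ (1 + 1)) = true := by
    have h2 : Fintype.card K % 3 ^ (1 + 1) % 3 = Fintype.card K % 3 := Nat.mod_mod_of_dvd _ (by norm_num)
    show (Fintype.card K % 3 ^ (1 + 1) % 3 != 0) = true
    rw [h2, bne_iff_ne]
    omega
  obtain ⟨ψ, a1, a2, a3, a4⟩ := cert_box e77_ok e77_chkD (l := 7) rfl hpE7 cartan77 K (k0 := 6) rfl R hG
    (p := 3) (by norm_num) (i := 0) (by decide) (v := 1) e7_three_chk'.1 hc (by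
      by_cases h : 3 ∣ Fintype.card K - 1
      · exact Or.inl fun M' hM χ hχ => mem_one_E7 (p := 3) (by norm_num) h hM _ χ hχ
      · refine Or.inr ⟨[1], by simp, ?_, e7_three_chk'.2⟩
        have h2 : (Fintype.card K : ℤ) ^ ([1] : List ℤ).length + evL (Fintype.card K : ℤ) [1] =
            ((Fintype.card K + 1 : ℕ) : ℤ) := by
          simp [evL]
        rw [h2]
        have h3 : 3 ∣ Fintype.card K + 1 := by omega
        exact_mod_cast h3)
  exact ⟨_, ψ, a1, self_PJ R hG _, a2, a3, fun α => ⟨cls_PJ R hG (typ_E7 R hG α) _, (a4 α (typ_E7 R hG α)).2⟩⟩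

/-- **`E₇(q)`, `p = 7`.** -/
theorem ud_E7_seven [Fact (Nat.Prime 7)] (K : Type u) [Field K] [Fintype K] [Fintype ↥(chevE7.group K)]
    (hq : 7 ∣ Fintype.card K ^ 2 - 1) :
    ∃ (H : Subgroup ↥(chevE7.group K)) (ψ : IrrCharacter ↥(chevE7.group K)),
      classInner (perm ↥(chevE7.group K) (↥(chevE7.group K) ⧸ H)) (ψ : ↥(chevE7.group K) → ℂ) = 1 ∧
      (∀ s : ↥(chevE7.group K), (∀ x, s⁻¹ * x * s ∈ H ↔ x ∈ H) → s ∈ H) ∧
      (∀ M' : Ideal AlgInt, IsPModular 7 M' → ψ ∈ principalBlock M' ↥(chevE7.group K)) ∧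
      vd 7 (ψ : ↥(chevE7.group K) → ℂ) = 1 ∧
      ∀ α : MulAut ↥(chevE7.group K), (∃ s : ↥(chevE7.group K), ∀ x, s⁻¹ * α x * s ∈ H ↔ x ∈ H) ∧
        ∀ s, (ψ : ↥(chevE7.group K) → ℂ) (α s) = (ψ : ↥(chevE7.group K) → ℂ) s := by
  obtain ⟨r, hr⟩ := CharP.exists K
  have hrp : Fact r.Prime := ⟨CharP.char_is_prime K r⟩
  have hfin : Finite CoxeterMatrix.E₇.Group := finite_W hpE7 CoxeterMatrix.E₇.toCoxeterSystem
  have R := rgd (K := K) hpE7 CoxeterMatrix.E₇.toCoxeterSystem r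
  have hG := Cfsg.Agent.BpExc.TorChev.GG_top (K := K) hpE7 CoxeterMatrix.E₇.toCoxeterSystem
  have h1 : 1 ≤ Fintype.card K := Fintype.card_pos
  have hc : (fun t => t % 7 == 1 || t % 7 == 6) (Fintype.card K % 7 ^ (1 + 1)) = true := by
    have h2 : Fintype.card K % 7 ^ (1 + 1) % 7 = Fintype.card K % 7 := Nat.mod_mod_of_dvd _ (by norm_num)
    show (Fintype.card K % 7 ^ (1 + 1) % 7 == 1 || Fintype.card K % 7 ^ (1 + 1) % 7 == 6) = true
    rw [h2, Bool.or_eq_true, beq_iff_eq, beq_iff_eq]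
    rcases dvd_cases (by norm_num) h1 hq with h | h <;> omega
  obtain ⟨ψ, a1, a2, a3, a4⟩ := cert_box e77_ok e77_chkD (l := 7) rfl hpE7 cartan77 K (k0 := 6) rfl R hG
    (p := 7) (by norm_num) (i := 2) (by decide) (v := 1) e7_seven_chk.1 hc (by
      rcases dvd_cases (by norm_num) h1 hq with h | h
      · exact Or.inl fun M' hM χ hχ => mem_one_E7 (p := 7) (by norm_num) h hM _ χ hχ
      · refine Or.inr ⟨[1], by simp, ?_, e7_seven_chk.2⟩
        have h2 : (Fintype.card K : ℤ) ^ ([1] : List ℤ).length + evL (Fintype.card K : ℤ) [1] =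
            ((Fintype.card K + 1 : ℕ) : ℤ) := by
          simp [evL]
        rw [h2]
        exact_mod_cast h)
  exact ⟨_, ψ, a1, self_PJ R hG _, a2, a3, fun α => ⟨cls_PJ R hG (typ_E7 R hG α) _, (a4 α (typ_E7 R hG α)).2⟩⟩

end Cfsg.Agent.H715.HT
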